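import Groth.Agent.Lib.RelRes16.Basic

/-!
Special direct and inverse systems of resolutions by a class of objects.
-/

universe v u

open CategoryTheory CategoryTheory.Limits CochainComplex Groth.Agent.ClassRes

set_option autoImplicit false
set_option linter.style.haveILetI false
set_option backward.isDefEq.respectTransparency false
set_option backward.isDefEq.respectTransparency.types false

namespace Groth.Agent.RelRes8

noncomputable section

variable {A : Type u} [Category.{v} A] [Abelian A]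

/-- The transition map between canonical truncations. -/
def transLE (K : CochainComplex A ℤ) (n m : ℤ) (h : n ≤ m) : K.truncLE n ⟶ K.truncLE m :=
  haveI : (K.truncLE n).IsStrictlyLE m := CochainComplex.isStrictlyLE_of_le _ n m h
  inv ((K.truncLE n).ιTruncLE m) ≫ truncLEMap (K.ιTruncLE n) m

theorem transLE_ι (K : CochainComplex A ℤ) (n m : ℤ) (h : n ≤ m) :
    transLE K n m h ≫ K.ιTruncLE m = K.ιTruncLE n := by
  haveI : (K.truncLE n).IsStrictlyLE m := CochainComplex.isStrictlyLE_of_le _ n m h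
  simp [transLE, CochainComplex.ιTruncLE_naturality]

/-- The transition map between canonical truncations. -/
def transGE (K : CochainComplex A ℤ) (n m : ℤ) (h : m ≤ n) : K.truncGE m ⟶ K.truncGE n :=
  haveI : (K.truncGE n).IsStrictlyGE m := CochainComplex.isStrictlyGE_of_ge _ m n h
  truncGEMap (K.πTruncGE n) m ≫ inv ((K.truncGE n).πTruncGE m)

theorem π_transGE (K : CochainComplex A ℤ) (n m : ℤ) (h : m ≤ n) :
    K.πTruncGE m ≫ transGE K n m h = K.πTruncGE n := by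
  haveI : (K.truncGE n).IsStrictlyGE m := CochainComplex.isStrictlyGE_of_ge _ m n h
  rw [transGE, ← Category.assoc, CochainComplex.πTruncGE_naturality]
  simp

/-- The dual of a relative resolution. -/
theorem exists_rel_resolution_right {I : A → Prop} (hI0 : ∀ Z : A, IsZero Z → I Z)
    (hIiso : ∀ {X Y : A}, (X ≅ Y) → I X → I Y) (hIsum : ∀ {X Y : A}, I X → I Y → I (X ⊞ Y))
    (hI : ∀ X : A, ∃ (Y : A) (ι : X ⟶ Y), I Y ∧ Mono ι)
    {H K : CochainComplex A ℤ} (φ : H ⟶ K) (b : ℤ) [K.IsStrictlyGE b] [H.IsStrictlyGE b]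
    (hK : ∀ i, I (K.X i)) :
    ∃ (K' : CochainComplex A ℤ) (p : K' ⟶ K) (π : H ⟶ K'), π ≫ p = φ ∧ QuasiIso π ∧ (∀ i, Mono (π.f i)) ∧
      K'.IsStrictlyGE b ∧ (∀ i, I (K'.X i)) ∧
      ∀ i, ∃ s : K.X i ⟶ K'.X i, s ≫ p.f i = 𝟙 _ ∧ I (kernel (p.f i)) := by
  haveI : ∀ (L : CochainComplex A ℤ) [L.IsStrictlyGE b], (dual L).IsStrictlyLE (-b) := fun L _ =>
    (CochainComplex.isStrictlyLE_iff _ _).2 fun n hn => (L.isZero_of_isStrictlyGE b (-n) (by omega)).op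
  obtain ⟨K', ι, π, hcomp, hq, he, hle, hmem, hs⟩ := RelRes16.exists_rel_resolution
    (P := fun X : Aᵒᵖ => I X.unop) (fun Z hZ => hI0 _ hZ.unop) (fun e h => hIiso e.unop.symm h)
    (fun {X Y} hX hY => hIiso (by
      haveI : HasBinaryBiproduct X.unop Y.unop := inferInstance
      exact (Iso.unop ((biprod.uniqueUpToIso X Y
        (isBinaryBilimitOfTotal
          { pt := Opposite.op (X.unop ⊞ Y.unop), fst := biprod.inl.op, snd := biprod.inr.op,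
            inl := biprod.fst.op, inr := biprod.snd.op,
            inl_fst := by rw [← op_comp, biprod.inl_fst]; rfl
            inl_snd := by rw [← op_comp, biprod.inr_fst]; rfl
            inr_fst := by rw [← op_comp, biprod.inl_snd]; rfl
            inr_snd := by rw [← op_comp, biprod.inr_snd]; rfl }
          (congrArg Quiver.Hom.op (biprod.total (X := X.unop) (Y := Y.unop))))).symm)))
      (hIsum hX hY))
    (fun X => by
      obtain ⟨Y, j, hY, hj⟩ := hI X.unop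
      exact ⟨Opposite.op Y, j.op, hY, inferInstanceAs (Epi j.op)⟩)
    (dualMap φ) (-b) (fun i => hK (-i))
  refine ⟨undual K', undualMap ι ≫ (undualDualIso K).hom, (undualDualIso H).inv ≫ undualMap π, ?_, ?_, fun i => ?_,
    (CochainComplex.isStrictlyGE_iff _ _).2 fun n hn => (K'.isZero_of_isStrictlyLE (-b) (-n) (by omega)).unop,
    fun i => hmem (-i), fun i => ?_⟩
  · have h2 : undualMap π ≫ undualMap ι = undualMap (dualMap φ) := by
      rw [← hcomp]; ext i; rfl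
    simp only [Category.assoc, reassoc_of% h2]
    rw [Iso.inv_comp_eq]
    ext i
    change φ.f (- -i) ≫ (K.XIsoOfEq (neg_neg i)).hom = (H.XIsoOfEq (neg_neg i)).hom ≫ φ.f i
    rw [HomologicalComplex.XIsoOfEq_hom_naturality φ (neg_neg i)]
  · haveI := hq
    haveI := quasiIso_undualMap π
    infer_instance
  · haveI := he (-i)
    haveI : Mono ((undualMap π).f i) := inferInstanceAs (Mono (π.f (-i)).unop)
    rw [HomologicalComplex.comp_f]
    infer_instance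
  · obtain ⟨r, hr, hc⟩ := hs (-i)
    refine ⟨(K.XIsoOfEq (neg_neg i)).inv ≫ r.unop, ?_, ?_⟩
    · change ((K.XIsoOfEq (neg_neg i)).inv ≫ r.unop) ≫ (ι.f (-i)).unop ≫ (K.XIsoOfEq (neg_neg i)).hom = _
      rw [Category.assoc, ← Category.assoc r.unop, ← unop_comp, hr]
      simp
    · exact hIiso ((kernelUnopOp (ι.f (-i))).unop ≪≫
        (kernelCompMono (ι.f (-i)).unop (K.XIsoOfEq (neg_neg i)).hom).symm) hc

variable {P : A → Prop}

/-- One stage of the direct system. -/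
structure Stage (P : A → Prop) (K : CochainComplex A ℤ) (n : ℕ) where
  /-- the complex -/
  Q : CochainComplex A ℤ
  /-- the resolution map -/
  π : Q ⟶ K.truncLE (n : ℤ)
  le : Q.IsStrictlyLE (n : ℤ)
  qis : QuasiIso π
  epi : ∀ i, Epi (π.f i)
  mem : ∀ i, P (Q.X i)

/-- Special direct systems of left resolutions. -/
theorem exists_direct_system (hP0 : ∀ Z : A, IsZero Z → P Z) (hPiso : ∀ {X Y : A}, (X ≅ Y) → P X → P Y)
    (hPsum : ∀ {X Y : A}, P X → P Y → P (X ⊞ Y)) (hP : ∀ X : A, ∃ (Y : A) (π : Y ⟶ X), P Y ∧ Epi π)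
    (K : CochainComplex A ℤ) :
    ∃ (Q : ℕ → CochainComplex A ℤ) (ι : ∀ n, Q n ⟶ Q (n + 1)) (π : ∀ n : ℕ, Q n ⟶ K.truncLE (n : ℤ)),
      (∀ n, QuasiIso (π n) ∧ ∀ i, Epi ((π n).f i)) ∧
      (∀ n, ∃ b : ℤ, (Q n).IsStrictlyLE b) ∧ (∀ n i, P ((Q n).X i)) ∧
      (∀ n i, (∃ r : (Q (n + 1)).X i ⟶ (Q n).X i, (ι n).f i ≫ r = 𝟙 _) ∧ P (cokernel ((ι n).f i))) ∧
      (∀ n : ℕ, π n ≫ K.ιTruncLE (n : ℤ) = ι n ≫ π (n + 1) ≫ K.ιTruncLE ((n + 1 : ℕ) : ℤ)) := by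
  obtain ⟨Q₀, π₀, h1, h2, h3, h4⟩ :=
    exists_leftResolution_epi ⟨_, isZero_zero A, hP0 _ (isZero_zero A)⟩ hP (K.truncLE ((0 : ℕ) : ℤ)) ((0 : ℕ) : ℤ)
  have step : ∀ (n : ℕ) (s : Stage P K n), ∃ (t : Stage P K (n + 1)) (ι : s.Q ⟶ t.Q),
      ι ≫ t.π = s.π ≫ transLE K (n : ℤ) ((n + 1 : ℕ) : ℤ) (by omega) ∧
      ∀ i, ∃ r : t.Q.X i ⟶ s.Q.X i, ι.f i ≫ r = 𝟙 _ ∧ P (cokernel (ι.f i)) := by
    intro n s
    haveI := s.le
    haveI : s.Q.IsStrictlyLE ((n + 1 : ℕ) : ℤ) := CochainComplex.isStrictlyLE_of_le _ (n : ℤ) _ (by omega)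
    obtain ⟨K', ι, π, hc, hq, he, hle, hm, hr⟩ := RelRes16.exists_rel_resolution hP0 hPiso hPsum hP
      (s.π ≫ transLE K (n : ℤ) ((n + 1 : ℕ) : ℤ) (by omega)) ((n + 1 : ℕ) : ℤ) s.mem
    exact ⟨⟨K', π, hle, hq, he, hm⟩, ι, hc, hr⟩
  choose t ι hc hr using step
  let S : ∀ n, Stage P K n := fun n => Nat.rec ⟨Q₀, π₀, h1, h4, h3, h2⟩ (fun n s => t n s) n
  refine ⟨fun n => (S n).Q, fun n => ι n (S n), fun n => (S n).π, fun n => ⟨(S n).qis, (S n).epi⟩,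
    fun n => ⟨_, (S n).le⟩, fun n i => (S n).mem i, fun n i => ?_, fun n => ?_⟩
  · obtain ⟨r, hr1, hr2⟩ := hr n (S n) i
    exact ⟨⟨r, hr1⟩, hr2⟩
  · show (S n).π ≫ _ = ι n (S n) ≫ (t n (S n)).π ≫ _
    rw [← Category.assoc (ι n (S n)), hc n (S n), Category.assoc, transLE_ι]

/-- One stage of the inverse system. -/
structure StageR (I : A → Prop) (K : CochainComplex A ℤ) (n : ℕ) where
  /-- the complex -/
  Q : CochainComplex A ℤ
  /-- the resolution map -/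
  π : K.truncGE (-(n : ℤ)) ⟶ Q
  ge : Q.IsStrictlyGE (-(n : ℤ))
  qis : QuasiIso π
  mono : ∀ i, Mono (π.f i)
  mem : ∀ i, I (Q.X i)

/-- Special inverse systems of right resolutions. -/
theorem exists_inverse_system {I : A → Prop} (hI0 : ∀ Z : A, IsZero Z → I Z)
    (hIiso : ∀ {X Y : A}, (X ≅ Y) → I X → I Y) (hIsum : ∀ {X Y : A}, I X → I Y → I (X ⊞ Y))
    (hI : ∀ X : A, ∃ (Y : A) (ι : X ⟶ Y), I Y ∧ Mono ι) (K : CochainComplex A ℤ) :
    ∃ (Q : ℕ → CochainComplex A ℤ) (p : ∀ n, Q (n + 1) ⟶ Q n) (π : ∀ n : ℕ, K.truncGE (-(n : ℤ)) ⟶ Q n),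
      (∀ n, QuasiIso (π n) ∧ ∀ i, Mono ((π n).f i)) ∧
      (∀ n, ∃ a : ℤ, (Q n).IsStrictlyGE a) ∧ (∀ n i, I ((Q n).X i)) ∧
      (∀ n i, (∃ s : (Q n).X i ⟶ (Q (n + 1)).X i, s ≫ (p n).f i = 𝟙 _) ∧ I (kernel ((p n).f i))) ∧
      (∀ n : ℕ, K.πTruncGE (-((n + 1 : ℕ) : ℤ)) ≫ π (n + 1) ≫ p n = K.πTruncGE (-(n : ℤ)) ≫ π n) := by
  obtain ⟨Q₀, π₀, h1, h2, h3, h4⟩ := exists_resolution_mono ⟨_, isZero_zero A, hI0 _ (isZero_zero A)⟩ hI
    (K.truncGE (-((0 : ℕ) : ℤ))) (-((0 : ℕ) : ℤ))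
  have step : ∀ (n : ℕ) (s : StageR I K n), ∃ (t : StageR I K (n + 1)) (p : t.Q ⟶ s.Q),
      t.π ≫ p = transGE K (-(n : ℤ)) (-((n + 1 : ℕ) : ℤ)) (by omega) ≫ s.π ∧
      ∀ i, ∃ r : s.Q.X i ⟶ t.Q.X i, r ≫ p.f i = 𝟙 _ ∧ I (kernel (p.f i)) := by
    intro n s
    haveI := s.ge
    haveI : s.Q.IsStrictlyGE (-((n + 1 : ℕ) : ℤ)) := CochainComplex.isStrictlyGE_of_ge _ _ (-(n : ℤ)) (by omega)
    obtain ⟨K', p, π, hc, hq, he, hge, hm, hr⟩ := exists_rel_resolution_right hI0 hIiso hIsum hI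
      (transGE K (-(n : ℤ)) (-((n + 1 : ℕ) : ℤ)) (by omega) ≫ s.π) (-((n + 1 : ℕ) : ℤ)) s.mem
    exact ⟨⟨K', π, hge, hq, he, hm⟩, p, hc, hr⟩
  choose t p hc hr using step
  let S : ∀ n, StageR I K n := fun n => Nat.rec ⟨Q₀, π₀, h1, h4, h3, h2⟩ (fun n s => t n s) n
  refine ⟨fun n => (S n).Q, fun n => p n (S n), fun n => (S n).π, fun n => ⟨(S n).qis, (S n).mono⟩,
    fun n => ⟨_, (S n).ge⟩, fun n i => (S n).mem i, fun n i => ?_, fun n => ?_⟩
  · obtain ⟨r, hr1, hr2⟩ := hr n (S n) i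
    exact ⟨⟨r, hr1⟩, hr2⟩
  · show K.πTruncGE _ ≫ (t n (S n)).π ≫ p n (S n) = _
    rw [hc n (S n), ← Category.assoc, π_transGE]

end

end Groth.Agent.RelRes8
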